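import Mathlib
import Cfsg.Prelude.Def_CaseTheorems
import Cfsg.Prelude.Def_TwoFusion
import Cfsg.Agent.S0016
import Cfsg.Agent.Lib.Helper2.ZS10
import Cfsg.Agent.Lib.Helper2.Components
import Cfsg.Agent.Lib.Helper2.Quasisimple
import Cfsg.Agent.Lib.Helper6.ABGSimple
import Cfsg.Agent.Lib.Helper1.FittingCentralizer
import Cfsg.Agent.Lib.Helper1.PLengthOne

set_option autoImplicit false

/-!
# Quasisimple groups of 2-rank one

A quasisimple group of even order and 2-rank at most one has generalized quaternion Sylow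
2-subgroups and its unique involution (of a Sylow 2-subgroup) is central (Brauer–Suzuki via `Z*`).
-/

namespace Cfsg.Agent.Lib.Helper5.ClassInv

open Cfsg

universe u

/-- the explicit four-group generated by two commuting involutions -/
def fourSub {M : Type*} [Group M] (a b : M) (ha : a * a = 1) (hb : b * b = 1)
    (hc : a * b = b * a) : Subgroup M where
  carrier := {g | g = 1 ∨ g = a ∨ g = b ∨ g = a * b}
  one_mem' := Or.inl rfl
  mul_mem' := by
    have e13 : a * (a * b) = b := by rw [← mul_assoc, ha, one_mul]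
    have e21 : b * a = a * b := hc.symm
    have e23 : b * (a * b) = a := by rw [← mul_assoc, e21, mul_assoc, hb, mul_one]
    have e31 : a * b * a = b := by rw [mul_assoc, e21, ← mul_assoc, ha, one_mul]
    have e32 : a * b * b = a := by rw [mul_assoc, hb, mul_one]
    have e33 : a * b * (a * b) = 1 := by rw [mul_assoc, e23, ha]
    rintro x y (rfl | rfl | rfl | rfl) (rfl | rfl | rfl | rfl)
    · left; rw [one_mul]
    · right; left; rw [one_mul]
    · right; right; left; rw [one_mul]
    · right; right; right; rw [one_mul]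
    · right; left; rw [mul_one]
    · left; exact ha
    · right; right; right; rfl
    · right; right; left; exact e13
    · right; right; left; rw [mul_one]
    · right; right; right; exact e21
    · left; exact hb
    · right; left; exact e23
    · right; right; right; rw [mul_one]
    · right; right; left; exact e31
    · right; left; exact e32
    · left; exact e33
  inv_mem' := by
    have ia : a⁻¹ = a := inv_eq_of_mul_eq_one_right ha
    have ib : b⁻¹ = b := inv_eq_of_mul_eq_one_right hb
    rintro x (rfl | rfl | rfl | rfl)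
    · left; exact inv_one
    · right; left; exact ia
    · right; right; left; exact ib
    · right; right; right; rw [mul_inv_rev, ia, ib]; exact hc.symm

theorem mem_fourSub {M : Type*} [Group M] (a b : M) (ha : a * a = 1) (hb : b * b = 1)
    (hc : a * b = b * a) (g : M) :
    g ∈ fourSub a b ha hb hc ↔ g = 1 ∨ g = a ∨ g = b ∨ g = a * b := Iff.rfl

theorem fourSub_sq {M : Type*} [Group M] (a b : M) (ha : a * a = 1) (hb : b * b = 1)
    (hc : a * b = b * a) (g : M) (hg : g ∈ fourSub a b ha hb hc) : g ^ 2 = 1 := by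
  rw [sq]
  rcases hg with rfl | rfl | rfl | rfl
  · rw [one_mul]
  · exact ha
  · exact hb
  · have e21 : b * a = a * b := hc.symm
    rw [mul_assoc, ← mul_assoc b a b, e21, mul_assoc, hb, mul_one, ha]

theorem fourSub_comm {M : Type*} [Group M] (a b : M) (ha : a * a = 1) (hb : b * b = 1)
    (hc : a * b = b * a) : IsMulCommutative ↥(fourSub a b ha hb hc) := by
  refine ⟨⟨?_⟩⟩
  rintro ⟨x, hx⟩ ⟨y, hy⟩
  apply Subtype.ext
  show x * y = y * x
  have hxy : (x * y) ^ 2 = 1 := fourSub_sq a b ha hb hc _ (Subgroup.mul_mem _ hx hy)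
  have hx2 : x ^ 2 = 1 := fourSub_sq a b ha hb hc _ hx
  have hy2 : y ^ 2 = 1 := fourSub_sq a b ha hb hc _ hy
  rw [sq] at hxy hx2 hy2
  -- x y x y = 1, x x = 1, y y = 1 ⇒ x y = y x
  have h1 : x * y = (x * y * (x * y)) * (y * x) := by
    have : x * y * (x * y) * (y * x) = x * y * (x * (y * y) * x) := by group
    rw [this, hy2, mul_one, hx2, mul_one]
  rw [hxy, one_mul] at h1
  exact h1

/-- In a group of 2-rank at most one, two commuting involutions coincide. -/
theorem eq_of_commute_involutions {M : Type*} [Group M] [Finite M] (hrk : PRankLE 2 1 M)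
    (a b : M) (ha : orderOf a = 2) (hb : orderOf b = 2) (hc : a * b = b * a) : a = b := by
  by_contra hne
  have ha2 : a * a = 1 := by rw [← sq, ← ha]; exact pow_orderOf_eq_one a
  have hb2 : b * b = 1 := by rw [← sq, ← hb]; exact pow_orderOf_eq_one b
  have ha1 : a ≠ 1 := by
    intro h; rw [h, orderOf_one] at ha; omega
  have hb1 : b ≠ 1 := by
    intro h; rw [h, orderOf_one] at hb; omega
  have hcard := hrk (fourSub a b ha2 hb2 hc) (fourSub_comm a b ha2 hb2 hc)
    (fun g hg => fourSub_sq a b ha2 hb2 hc g hg)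
  have hle : Subgroup.zpowers a ≤ fourSub a b ha2 hb2 hc := by
    rw [Subgroup.zpowers_le]; exact Or.inr (Or.inl rfl)
  have heq : Subgroup.zpowers a = fourSub a b ha2 hb2 hc := by
    apply Subgroup.eq_of_le_of_card_ge hle
    rw [Nat.card_zpowers, ha]
    simpa using hcard
  have hbm : b ∈ Subgroup.zpowers a := by
    rw [heq]; exact Or.inr (Or.inr (Or.inl rfl))
  obtain ⟨k, hk⟩ := Subgroup.mem_zpowers_iff.mp hbm
  rw [← zpow_mod_orderOf, ha] at hk
  have h2 : k % ((2 : ℕ) : ℤ) = 0 ∨ k % ((2 : ℕ) : ℤ) = 1 := by push_cast; omega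
  rcases h2 with h | h
  · rw [h, zpow_zero] at hk; exact hb1 hk.symm
  · rw [h, zpow_one] at hk; exact hne hk

/-- A nontrivial `2`-group of `2`-rank at most one has a unique involution. -/
theorem involution_unique {P : Type*} [Group P] [Finite P] (hP : IsPGroup 2 P)
    (hrk : PRankLE 2 1 P) (a b : P) (ha : orderOf a = 2) (hb : orderOf b = 2) : a = b := by
  have : Fact (Nat.Prime 2) := ⟨Nat.prime_two⟩
  have : Nontrivial P := by
    refine ⟨⟨a, 1, ?_⟩⟩
    intro h; rw [h, orderOf_one] at ha; omega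
  have := hP.center_nontrivial
  have h2 : 2 ∣ Nat.card (Subgroup.center P) := by
    obtain ⟨k, hk⟩ := IsPGroup.iff_card.mp (hP.to_subgroup (Subgroup.center P))
    rw [hk]
    have hk0 : k ≠ 0 := by
      rintro rfl
      rw [pow_zero] at hk
      have := Finite.one_lt_card (α := Subgroup.center P)
      omega
    exact dvd_pow_self 2 hk0
  obtain ⟨z, hz⟩ := exists_prime_orderOf_dvd_card' 2 h2
  have hz' : orderOf (z : P) = 2 := by rw [Subgroup.orderOf_coe]; exact hz
  have hzc : ∀ g : P, g * (z : P) = (z : P) * g := fun g => Subgroup.mem_center_iff.mp z.2 g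
  have e1 := eq_of_commute_involutions hrk a z ha hz' (hzc a)
  have e2 := eq_of_commute_involutions hrk b z hb hz' (hzc b)
  rw [e1, e2]

theorem pRankLE_subgroup {M : Type*} [Group M] {p k : ℕ} (hrk : PRankLE p k M) (H : Subgroup M) :
    PRankLE p k ↥H := by
  intro A hA hexp
  have h1 := hrk (A.map H.subtype) ?_ ?_
  · rwa [Nat.card_congr (A.equivMapOfInjective H.subtype H.subtype_injective).symm.toEquiv] at h1
  · refine ⟨⟨?_⟩⟩
    rintro ⟨x, hx⟩ ⟨y, hy⟩
    obtain ⟨x', hx', rfl⟩ := hx
    obtain ⟨y', hy', rfl⟩ := hy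
    apply Subtype.ext
    show H.subtype x' * H.subtype y' = H.subtype y' * H.subtype x'
    have := hA.is_comm.comm ⟨x', hx'⟩ ⟨y', hy'⟩
    have h2 : x' * y' = y' * x' := congrArg Subtype.val this
    rw [← map_mul, ← map_mul, h2]
  · rintro a ⟨a', ha', rfl⟩
    rw [← map_pow, hexp a' ha', map_one]

/-- A nontrivial 2-group of 2-rank at most one is cyclic or generalized quaternion of order ≥ 8. -/
theorem cyclic_or_quaternion {P : Type*} [Group P] [Finite P] (hP : IsPGroup 2 P)
    (hrk : PRankLE 2 1 P) :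
    IsCyclic P ∨ ∃ n : ℕ, Nonempty (P ≃* QuaternionGroup (2 ^ (n + 1))) := by
  have : Fact (Nat.Prime 2) := ⟨Nat.prime_two⟩
  have huniq : ∀ H K : Subgroup P, Nat.card H = 2 → Nat.card K = 2 → H = K := by
    intro H K hH hK
    obtain ⟨a, ha⟩ := exists_prime_orderOf_dvd_card' (G := H) 2 (by rw [hH])
    obtain ⟨b, hb⟩ := exists_prime_orderOf_dvd_card' (G := K) 2 (by rw [hK])
    have ha' : orderOf (a : P) = 2 := by rw [Subgroup.orderOf_coe]; exact ha
    have hb' : orderOf (b : P) = 2 := by rw [Subgroup.orderOf_coe]; exact hb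
    have hab := involution_unique hP hrk (a : P) (b : P) ha' hb'
    have hH' : Subgroup.zpowers (a : P) = H := by
      apply Subgroup.eq_of_le_of_card_ge
      · rw [Subgroup.zpowers_le]; exact a.2
      · rw [Nat.card_zpowers, ha', hH]
    have hK' : Subgroup.zpowers (b : P) = K := by
      apply Subgroup.eq_of_le_of_card_ge
      · rw [Subgroup.zpowers_le]; exact b.2
      · rw [Nat.card_zpowers, hb', hK]
    rw [← hH', ← hK', hab]
  rcases Cfsg.Agent.S0016.result 2 hP huniq with h | ⟨-, n, ⟨e⟩⟩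
  · exact Or.inl h
  · rcases n with _ | n
    · left
      have : IsCyclic (QuaternionGroup (2 ^ 0)) := by
        rw [pow_zero]; exact QuaternionGroup.quaternionGroup_one_isCyclic
      exact isCyclic_of_surjective e.symm.toMonoidHom e.symm.surjective
    · exact Or.inr ⟨n, ⟨e⟩⟩

/-- **Main lemma.** A quasisimple group of even order and 2-rank at most one has generalized
quaternion Sylow 2-subgroups and a central involution. -/
theorem exists_central_involution {M : Type u} [Group M] [Finite M]
    (hq : IsQuasisimple M) (heven : Even (Nat.card M)) (hrk : PRankLE 2 1 M) :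
    ∃ t : M, orderOf t = 2 ∧ t ∈ Subgroup.center M ∧
      ∃ S : Sylow 2 M, ∃ n : ℕ, Nonempty (↥(S : Subgroup M) ≃* QuaternionGroup (2 ^ (n + 1))) := by
  classical
  have : Fact (Nat.Prime 2) := ⟨Nat.prime_two⟩
  have hperf : Group.IsPerfect M := hq.1
  have h2 : 2 ∣ Nat.card M := even_iff_two_dvd.mp heven
  obtain ⟨S⟩ : Nonempty (Sylow 2 M) := inferInstance
  have hSrk : PRankLE 2 1 ↥(S : Subgroup M) := pRankLE_subgroup hrk _
  -- the cyclic case is impossible
  have hncyc : ¬ IsCyclic ↥(S : Subgroup M) := by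
    intro hcyc
    obtain ⟨H, hH⟩ := Cfsg.Agent.Lib.Helper6.ABG.exists_index_two_of_cyclic_sylow S hcyc h2
    have : H.Normal := Subgroup.normal_of_index_eq_two hH
    have hcard : Nat.card (M ⧸ H) = 2 := by rw [← Subgroup.index_eq_card]; exact hH
    have : IsCyclic (M ⧸ H) := isCyclic_of_prime_card (p := 2) hcard
    let _ : CommGroup (M ⧸ H) := IsCyclic.commGroup
    have hall : ∀ x : M, x ∈ H := by
      intro x
      have := Cfsg.Agent.Lib.Helper2.hom_eq_one_of_isPerfect hperf
        (fun a b : M ⧸ H => mul_comm a b) (QuotientGroup.mk' H) x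
      rwa [QuotientGroup.mk'_apply, QuotientGroup.eq_one_iff] at this
    have htop : H = ⊤ := by rw [eq_top_iff]; intro x _; exact hall x
    rw [htop, Subgroup.index_top] at hH
    omega
  rcases cyclic_or_quaternion S.2 hSrk with hcyc | ⟨n, ⟨e⟩⟩
  · exact absurd hcyc hncyc
  -- the involution
  obtain ⟨t0, ht0⟩ := exists_prime_orderOf_dvd_card' (G := ↥(S : Subgroup M)) 2
    (by
      have := S.dvd_card_of_dvd_card h2
      exact this)
  have ht : orderOf (t0 : M) = 2 := by rw [Subgroup.orderOf_coe]; exact ht0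
  have huniq : ∀ u ∈ (S : Subgroup M), orderOf u = 2 → u = (t0 : M) := by
    intro u hu hu2
    have h1 : orderOf (⟨u, hu⟩ : ↥(S : Subgroup M)) = 2 := by
      rw [← Subgroup.orderOf_coe]; exact hu2
    have := involution_unique S.2 hSrk ⟨u, hu⟩ t0 h1 ht0
    exact congrArg Subtype.val this
  have hiso : IsIsolatedInvolution (t0 : M) :=
    Cfsg.Agent.Lib.Helper2.ZS.isolated_of_sylow S (t0 : M) ht t0.2
      (fun g hg => huniq _ hg (by
        have := (MulAut.conj g).orderOf_eq (t0 : M)
        rw [MulAut.conj_apply] at this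
        rw [this]; exact ht))
  have hz := Cfsg.Agent.Lib.Helper2.ZS.zstar (t0 : M) hiso
  -- the odd core is central
  have hOn : (oddCore M).Normal := Cfsg.Agent.Lib.Helper1.pPrimeCore_normal 2
  have hOc : oddCore M ≤ Subgroup.center M := by
    rcases Cfsg.Agent.Lib.Helper2.isQuasisimple_normal_eq_top_or_le_center hq (oddCore M) with h | h
    · exfalso
      have hcop : (Nat.card (oddCore M)).Coprime 2 :=
        Cfsg.Agent.Lib.Helper1.pPrimeCore_card_coprime 2
      rw [h, Subgroup.card_top] at hcop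
      have := Nat.Coprime.eq_one_of_dvd hcop.symm h2
      omega
    · exact h
  -- t0 is central
  have hcen : ∀ g : M, (t0 : M) * g * (t0 : M)⁻¹ * g⁻¹ ∈ Subgroup.center M := fun g => hOc (hz g)
  let f : M →* ↥(Subgroup.center M) := MonoidHom.mk' (fun g => ⟨(t0 : M) * g * (t0 : M)⁻¹ * g⁻¹, hcen g⟩)
    (by
      intro g h
      apply Subtype.ext
      show (t0 : M) * (g * h) * (t0 : M)⁻¹ * (g * h)⁻¹
        = ((t0 : M) * g * (t0 : M)⁻¹ * g⁻¹) * ((t0 : M) * h * (t0 : M)⁻¹ * h⁻¹)
      have hc := Subgroup.mem_center_iff.mp (hcen h) g⁻¹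
      calc (t0 : M) * (g * h) * (t0 : M)⁻¹ * (g * h)⁻¹
          = (t0 : M) * g * (t0 : M)⁻¹ * (((t0 : M) * h * (t0 : M)⁻¹ * h⁻¹) * g⁻¹) := by group
        _ = (t0 : M) * g * (t0 : M)⁻¹ * (g⁻¹ * ((t0 : M) * h * (t0 : M)⁻¹ * h⁻¹)) := by rw [hc]
        _ = _ := by group)
  have hf : ∀ g : M, f g = 1 := fun g =>
    Cfsg.Agent.Lib.Helper2.hom_eq_one_of_isPerfect hperf
      (fun a b : ↥(Subgroup.center M) =>
        Subtype.ext (Subgroup.mem_center_iff.mp b.2 (a : M))) f g
  have htc : (t0 : M) ∈ Subgroup.center M := by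
    rw [Subgroup.mem_center_iff]
    intro g
    have h1 : (t0 : M) * g * (t0 : M)⁻¹ * g⁻¹ = 1 := congrArg Subtype.val (hf g)
    have h3 : (t0 : M) * g = g * (t0 : M) := by
      have : (t0 : M) * g = ((t0 : M) * g * (t0 : M)⁻¹ * g⁻¹) * (g * (t0 : M)) := by group
      rw [this, h1, one_mul]
    exact h3.symm
  exact ⟨(t0 : M), ht, htc, S, n, ⟨e⟩⟩

end Cfsg.Agent.Lib.Helper5.ClassInv
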